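import Groth.Prelude.Def_RelSpec
import Groth.Agent.Ega1.QCohAlg
import Groth.Agent.Ega1.SubExt

/-!
# Quasi-coherent algebras `RelSpec.QCAlg`: elementary API

For `B : RelSpec.QCAlg X`:
* `Sec B U`, `rho B h`, `str B U`: sections, restriction maps, structure maps (as ring homs);
  `rho_str`, `rho_rho`, `smul_eq`, `res_eq`.
* `isAwayHom`: `B(W) → B(D(f))` is a localization for `W` affine.
* `isQCoh_toModule`: `B.toModule` is quasi-coherent.
-/

universe u

open AlgebraicGeometry CategoryTheory TopologicalSpace Opposite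
open Groth.Agent.Ega1.SubSheaf Groth.Agent.Ega1.LocMod Groth.Agent.Ega1.QCohOfLoc
open Groth.Agent.Ega1.QCohFinite
open Groth.Agent.Ega1.QCohAlg (IsAwayHom isAwayHom_iff)

namespace K27.QCAlgBasic

variable {X : Scheme.{u}} (B : RelSpec.QCAlg X)

/-- Sections of a quasi-coherent algebra. -/
abbrev Sec (U : X.Opens) : Type u := B.presheaf.obj (op U)

/-- Restriction of sections. -/
def rho {U V : X.Opens} (h : V ≤ U) : Sec B U →+* Sec B V := (B.presheaf.map (homOfLE h).op).hom

/-- The structure map on sections. -/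
def str (U : X.Opens) : Γ(X, U) →+* Sec B U := (B.str.app (op U)).hom

variable {B}

lemma rho_str {U V : X.Opens} (h : V ≤ U) (r : Γ(X, U)) :
    rho B h (str B U r) = str B V (resR h r) :=
  congr($(B.str.naturality (homOfLE h).op) r).symm

lemma rho_rho {U V W : X.Opens} (h : V ≤ U) (h' : W ≤ V) (s : Sec B U) :
    rho B h' (rho B h s) = rho B (h'.trans h) s := by
  change (B.presheaf.map (homOfLE h).op ≫ B.presheaf.map (homOfLE h').op).hom s = _
  rw [← Functor.map_comp]
  rfl

lemma rho_self {U : X.Opens} (h : U ≤ U) (s : Sec B U) : rho B h s = s := by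
  change (B.presheaf.map (𝟙 _)).hom s = s
  rw [CategoryTheory.Functor.map_id]
  rfl

/-- Sections of `B.toModule` are sections of `B`. -/
def asSec {U : X.Opens} (s : Γ(B.toModule, U)) : Sec B U := s

/-- Sections of `B` are sections of `B.toModule`. -/
def asMod {U : X.Opens} (s : Sec B U) : Γ(B.toModule, U) := s

@[simp] lemma asSec_asMod {U : X.Opens} (s : Sec B U) : asSec (asMod s) = s := rfl

@[simp] lemma asMod_asSec {U : X.Opens} (s : Γ(B.toModule, U)) : asMod (asSec s) = s := rfl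

lemma asSec_smul {U : X.Opens} (r : Γ(X, U)) (s : Γ(B.toModule, U)) :
    asSec (r • s) = str B U r * asSec s := rfl

lemma asSec_add {U : X.Opens} (s t : Γ(B.toModule, U)) :
    asSec (s + t) = asSec s + asSec t := rfl

lemma asSec_sub {U : X.Opens} (s t : Γ(B.toModule, U)) :
    asSec (s - t) = asSec s - asSec t := rfl

lemma asSec_zero {U : X.Opens} : asSec (0 : Γ(B.toModule, U)) = 0 := rfl

lemma asSec_res {U V : X.Opens} (h : V ≤ U) (s : Γ(B.toModule, U)) :
    asSec (res B.toModule h s) = rho B h (asSec s) := rfl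

lemma isAwayHom {W : X.Opens} (hW : IsAffineOpen W) (f : Γ(X, W)) :
    IsAwayHom (rho B (X.basicOpen_le f)) (str B W f) := B.isQC W hW f

lemma exists_rho_eq {W : X.Opens} (hW : IsAffineOpen W) (f : Γ(X, W)) (s : Sec B (X.basicOpen f)) :
    ∃ (n : ℕ) (t : Sec B W), rho B (X.basicOpen_le f) t =
      str B _ (resR (X.basicOpen_le f) f) ^ n * s := by
  obtain ⟨n, t, ht⟩ := ((isAwayHom_iff _ _).mp (isAwayHom hW f)).2.1 s
  exact ⟨n, t, by rw [ht, rho_str]⟩

lemma exists_pow_mul_eq_zero {W : X.Opens} (hW : IsAffineOpen W) (f : Γ(X, W)) (t : Sec B W)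
    (ht : rho B (X.basicOpen_le f) t = 0) : ∃ n : ℕ, str B W f ^ n * t = 0 :=
  ((isAwayHom_iff _ _).mp (isAwayHom hW f)).2.2 t ht

lemma isUnit_str {W : X.Opens} (f : Γ(X, W)) : IsUnit (str B _ (resR (X.basicOpen_le f) f)) :=
  (Groth.Agent.Ega1.SubExt.isUnit_res W f).map (str B _)

variable (B)

lemma loc_toModule {W : X.Opens} (hW : IsAffineOpen W) : Loc B.toModule W where
  surj f s := by
    obtain ⟨n, t, ht⟩ := exists_rho_eq hW f (asSec s)
    refine ⟨n, asMod t, ?_⟩
    change asSec (res B.toModule _ (asMod t)) = asSec _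
    rw [asSec_res, asSec_asMod, ht, asSec_smul, map_pow]
  inj f t ht := by
    obtain ⟨n, hn⟩ := exists_pow_mul_eq_zero hW f (asSec t) ht
    refine ⟨n, ?_⟩
    change asSec _ = 0
    rw [asSec_smul, map_pow, hn]

/-- The module underlying a quasi-coherent algebra is quasi-coherent. -/
theorem isQCoh_toModule : B.toModule.IsQuasicoherent := by
  refine isQuasicoherent_of_loc _ fun x ↦ ?_
  obtain ⟨_, ⟨W, hW, rfl⟩, hxW, -⟩ :=
    X.isBasis_affineOpens.exists_subset_of_mem_open (Set.mem_univ x) isOpen_univ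
  exact ⟨W, hxW, hW, loc_toModule B hW⟩

variable {B}

/-- Sections agreeing locally are equal. -/
lemma sec_ext {U : X.Opens} (s t : Sec B U)
    (h : ∀ x ∈ U, ∃ (V : X.Opens) (hV : V ≤ U), x ∈ V ∧ rho B hV s = rho B hV t) : s = t :=
  section_ext B.toModule (asMod s) (asMod t) h

/-- Gluing of sections. -/
lemma exists_glue {U : X.Opens} {ι : Type*} (V : ι → X.Opens)
    (hV : ∀ i, V i ≤ U) (hU : ∀ x ∈ U, ∃ i, x ∈ V i) (s : ∀ i, Sec B (V i))
    (hs : ∀ i j, rho B (U := V i) (V := V i ⊓ V j) inf_le_left (s i) =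
      rho B (U := V j) (V := V i ⊓ V j) inf_le_right (s j)) :
    ∃ t : Sec B U, ∀ i, rho B (hV i) t = s i :=
  Groth.Agent.Ega1.SubSheaf.exists_glue B.toModule V hV hU (fun i ↦ asMod (s i)) hs

end K27.QCAlgBasic
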