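import Groth.Prelude.Def_SecTwist
import Groth.Agent.Ega2.Extend
import Groth.Agent.Ega2.AmpleWeight

/-!
# Comparison of the prelude's `SecTwist` with the section calculus `Fdesc.LocGen`
-/

universe u

open AlgebraicGeometry CategoryTheory TopologicalSpace Opposite

namespace K27.TwistCmp

open Groth.Agent.Fdesc.LocGen

variable {X : Scheme.{u}} {M N L F : X.Modules}

lemma tmul_eq {U : X.Opens} (m : M.val.obj (op U)) (n : N.val.obj (op U)) :
    SecTwist.tmul M N U m n = tmul (show Γ(M, U) from m) (show Γ(N, U) from n) := rfl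

lemma val_eq (s : Coh.structureModule X ⟶ L) (U : X.Opens) : SecTwist.val s U = sec s U := rfl

lemma pow_eq (s : Coh.structureModule X ⟶ L) (n : ℕ) (U : X.Opens) :
    SecTwist.pow s n U = pow (sec s U) n := by
  induction n with
  | zero => rfl
  | succ n ih =>
    change SecTwist.tmul _ _ U (SecTwist.pow s n U) (SecTwist.val s U) = tmul (pow (sec s U) n) (sec s U)
    rw [ih]
    rfl

lemma twist_eq (s : Coh.structureModule X ⟶ L) (n : ℕ) (U : X.Opens) (t : F.val.obj (op U)) :
    SecTwist.twist s n F U t = tmul (show Γ(F, U) from t) (pow (sec s U) n) := by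
  rw [SecTwist.twist, pow_eq]
  rfl

lemma tmulHom_eq (f : Coh.structureModule X ⟶ M) (g : Coh.structureModule X ⟶ N) :
    SecTwist.tmulHom f g = Groth.Agent.Ega2.Weight.tmulHom f g := by
  apply hom_ext_sec
  rw [Groth.Agent.Ega2.Weight.sec_tmulHom]
  exact SecTwist.val_tmulHom f g ⊤

lemma powHom_eq (f : Coh.structureModule X ⟶ M) (n : ℕ) :
    SecTwist.powHom f n = Groth.Agent.Ega2.Weight.powHom f n := by
  apply hom_ext_sec
  rw [Groth.Agent.Ega2.Weight.sec_powHom, ← pow_eq]
  exact SecTwist.val_powHom f n ⊤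

end K27.TwistCmp
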