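import Groth.Agent.QCohSup.K27.SubAlg
import Groth.Agent.Ega1.SubUnion
import Mathlib.RingTheory.FiniteType

/-!
# The subalgebra of a quasi-coherent algebra generated by a quasi-coherent submodule

`adj E : SubR B` for `E : Sub B.toModule`; over affine opens its sections are the subring
generated by the functions and the sections of `E` (`mem_adj_iff`), it satisfies the localization
condition (`qc_adj`) and is of finite type if `E` is (`finiteType_adj`).
-/

universe u

open AlgebraicGeometry CategoryTheory TopologicalSpace Opposite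
open Groth.Agent.Ega1.SubSheaf Groth.Agent.Ega1.LocMod Groth.Agent.Ega1.QCohOfLoc
open Groth.Agent.Ega1.QCohFinite Groth.Agent.Ega1.SubExt Groth.Agent.Ega1.SubExtMain
open Groth.Agent.Ega1.QCohAlg (IsAwayHom isAwayHom_iff)
open K27.QCAlgBasic K27.SubAlg

namespace K27.Adjoin

variable {X : Scheme.{u}}

/-- Goodness everywhere gives the localization condition and finiteness over all affine opens. -/
lemma qc_fg_of_good {M : X.Modules} [M.IsQuasicoherent] {N : Sub M} (hN : ∀ x : X, GoodAt N x)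
    {W : X.Opens} (hW : IsAffineOpen W) : QC N W ∧ (N.obj W).FG := by
  obtain ⟨h1, h2⟩ := isQuasicoherent_of_good hN
  have hfin := finite_sections N.toModules h2 hW
  have hfin' : Module.Finite Γ(X, W) (N.obj W) := hfin
  refine ⟨fun f s hs ↦ ?_, Module.Finite.iff_fg.mp hfin'⟩
  obtain ⟨n, t, ht⟩ := (loc_of_isQuasicoherent N.toModules hW).surj f (N.sec _ hs)
  have h3 : res M (X.basicOpen_le f) (N.ι.app W t) = res M (X.basicOpen_le f) (f ^ n • s) := by
    rw [← app_res, ht, app_smul', Sub.ι_app_sec, res_pow_smul]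
  obtain ⟨m, hm⟩ := (loc_of_isQuasicoherent M hW).inj f (N.ι.app W t - f ^ n • s) (by
    rw [map_sub, h3, sub_self])
  refine ⟨m + n, ?_⟩
  rw [smul_sub, sub_eq_zero, smul_smul, ← pow_add] at hm
  rw [← hm]
  exact (N.obj W).smul_mem _ (N.ι_app_mem t)

variable {B : RelSpec.QCAlg X}

/-- The subring generated by the functions and the sections of `E`. -/
def cl (E : Sub B.toModule) (V : X.Opens) : Subring (Sec B V) :=
  Subring.closure (Set.range (str B V) ∪ {s | asMod s ∈ E.obj V})

variable {E : Sub B.toModule}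

lemma str_mem_cl (V : X.Opens) (r : Γ(X, V)) : str B V r ∈ cl E V :=
  Subring.subset_closure (Or.inl ⟨r, rfl⟩)

lemma mem_cl_of_mem {V : X.Opens} {s : Sec B V} (hs : asMod s ∈ E.obj V) : s ∈ cl E V :=
  Subring.subset_closure (Or.inr hs)

lemma rho_mem_cl {U V : X.Opens} (h : V ≤ U) {s : Sec B U} (hs : s ∈ cl E U) :
    rho B h s ∈ cl E V := by
  have : cl E U ≤ (cl E V).comap (rho B h) := by
    rw [cl, Subring.closure_le]
    rintro _ (⟨r, rfl⟩ | hs)
    · change rho B h (str B U r) ∈ cl E V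
      rw [rho_str]
      exact str_mem_cl _ _
    · exact mem_cl_of_mem (E.map_mem h hs)
  exact this hs

variable (E) in
/-- The sheaf of subrings generated by `E`. -/
def adj : SubR B where
  obj U :=
    { carrier := {s | ∀ x ∈ U, ∃ (V : X.Opens) (hV : V ≤ U), x ∈ V ∧ rho B hV s ∈ cl E V}
      add_mem' := by
        intro a b ha hb x hx
        obtain ⟨V, hV, hxV, h⟩ := ha x hx
        obtain ⟨V', hV', hxV', h'⟩ := hb x hx
        refine ⟨V ⊓ V', inf_le_left.trans hV, ⟨hxV, hxV'⟩, ?_⟩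
        have h1 := rho_mem_cl (inf_le_left : V ⊓ V' ≤ V) h
        have h2 := rho_mem_cl (inf_le_right : V ⊓ V' ≤ V') h'
        rw [rho_rho] at h1 h2
        rw [map_add]
        exact Subring.add_mem _ h1 h2
      mul_mem' := by
        intro a b ha hb x hx
        obtain ⟨V, hV, hxV, h⟩ := ha x hx
        obtain ⟨V', hV', hxV', h'⟩ := hb x hx
        refine ⟨V ⊓ V', inf_le_left.trans hV, ⟨hxV, hxV'⟩, ?_⟩
        have h1 := rho_mem_cl (inf_le_left : V ⊓ V' ≤ V) h
        have h2 := rho_mem_cl (inf_le_right : V ⊓ V' ≤ V') h'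
        rw [rho_rho] at h1 h2
        rw [map_mul]
        exact Subring.mul_mem _ h1 h2
      zero_mem' := fun x hx ↦ ⟨U, le_rfl, hx, by rw [map_zero]; exact Subring.zero_mem _⟩
      one_mem' := fun x hx ↦ ⟨U, le_rfl, hx, by rw [map_one]; exact Subring.one_mem _⟩
      neg_mem' := by
        intro a ha x hx
        obtain ⟨V, hV, hxV, h⟩ := ha x hx
        exact ⟨V, hV, hxV, by rw [map_neg]; exact Subring.neg_mem _ h⟩ }
  str_mem U r := fun x hx ↦ ⟨U, le_rfl, hx, by rw [rho_self]; exact str_mem_cl _ _⟩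
  map_mem {U U'} h {s} hs x hx := by
    obtain ⟨V, hV, hxV, h1⟩ := hs x (h hx)
    refine ⟨V ⊓ U', inf_le_right, ⟨hxV, hx⟩, ?_⟩
    have h2 := rho_mem_cl (inf_le_left : V ⊓ U' ≤ V) h1
    rw [rho_rho] at h2 ⊢
    exact h2
  local_mem {U} s h x hx := by
    obtain ⟨V, hV, hxV, hs⟩ := h x hx
    obtain ⟨V', hV', hxV', h1⟩ := hs x hxV
    exact ⟨V', hV'.trans hV, hxV', by rwa [rho_rho] at h1⟩

lemma mem_adj {U : X.Opens} {s : Sec B U} : s ∈ (adj E).obj U ↔
    ∀ x ∈ U, ∃ (V : X.Opens) (hV : V ≤ U), x ∈ V ∧ rho B hV s ∈ cl E V := Iff.rfl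

lemma cl_le_adj (U : X.Opens) : cl E U ≤ (adj E).obj U := fun s hs x hx ↦
  ⟨U, le_rfl, hx, by rwa [rho_self]⟩

lemma mem_adj_of_mem {U : X.Opens} {s : Sec B U} (hs : asMod s ∈ E.obj U) : s ∈ (adj E).obj U :=
  cl_le_adj _ (mem_cl_of_mem hs)

/-- Sections of `cl E` over a basic open extend after multiplication by a power. -/
lemma exists_lift_cl {W : X.Opens} (hW : IsAffineOpen W) (hE : QC E W) (f : Γ(X, W))
    {t : Sec B (X.basicOpen f)} (ht : t ∈ cl E (X.basicOpen f)) :
    ∃ (n : ℕ) (s : Sec B W), s ∈ cl E W ∧ rho B (X.basicOpen_le f) s =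
      str B _ (resR (X.basicOpen_le f) f) ^ n * t := by
  have raise : ∀ (m : ℕ) (s : Sec B W), s ∈ cl E W → str B W f ^ m * s ∈ cl E W ∧
      rho B (X.basicOpen_le f) (str B W f ^ m * s) =
        str B _ (resR (X.basicOpen_le f) f) ^ m * rho B (X.basicOpen_le f) s := by
    intro m s hs
    refine ⟨Subring.mul_mem _ (Subring.pow_mem _ (str_mem_cl _ _) _) hs, ?_⟩
    rw [map_mul, map_pow, rho_str]
  have : ∀ t ∈ cl E (X.basicOpen f), ∃ (n : ℕ) (s : Sec B W), s ∈ cl E W ∧
      rho B (X.basicOpen_le f) s = str B _ (resR (X.basicOpen_le f) f) ^ n * t := by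
    intro t ht
    induction ht using Subring.closure_induction with
    | mem t ht =>
      rcases ht with ⟨r, rfl⟩ | ht
      · obtain ⟨n, b, hb⟩ := exists_resR_eq hW f r
        refine ⟨n, str B W b, str_mem_cl _ _, ?_⟩
        rw [rho_str]
        rw [hb, map_mul, map_pow]
      · obtain ⟨n, t', ht'⟩ := (loc_toModule B hW).surj f (asMod t)
        obtain ⟨m, hm⟩ := hE f t' (by
          rw [ht']
          exact Submodule.smul_mem _ _ ht)
        refine ⟨m + n, asSec (f ^ m • t'), mem_cl_of_mem hm, ?_⟩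
        rw [← asSec_res, res_pow_smul, ht', smul_smul, ← pow_add, asSec_smul, map_pow]
        rfl
    | zero => exact ⟨0, 0, Subring.zero_mem _, by rw [map_zero, mul_zero]⟩
    | one => exact ⟨0, 1, Subring.one_mem _, by rw [map_one, pow_zero, mul_one]⟩
    | add x y _ _ hx hy =>
      obtain ⟨n, s, hs, hsx⟩ := hx
      obtain ⟨m, s', hs', hsy⟩ := hy
      refine ⟨n + m, str B W f ^ m * s + str B W f ^ n * s',
        Subring.add_mem _ (raise m s hs).1 (raise n s' hs').1, ?_⟩
      rw [map_add, (raise m s hs).2, (raise n s' hs').2, hsx, hsy]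
      ring
    | neg x _ hx =>
      obtain ⟨n, s, hs, hsx⟩ := hx
      exact ⟨n, -s, Subring.neg_mem _ hs, by rw [map_neg, hsx, mul_neg]⟩
    | mul x y _ _ hx hy =>
      obtain ⟨n, s, hs, hsx⟩ := hx
      obtain ⟨m, s', hs', hsy⟩ := hy
      refine ⟨n + m, s * s', Subring.mul_mem _ hs hs', ?_⟩
      rw [map_mul, hsx, hsy]
      ring
  exact this t ht

/-- If `s|_{D(f)}` is in `cl E` then some `f ^ n * s` is. -/
lemma exists_pow_mul_mem_cl {W : X.Opens} (hW : IsAffineOpen W) (hE : QC E W) (f : Γ(X, W))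
    {s : Sec B W} (hs : rho B (X.basicOpen_le f) s ∈ cl E (X.basicOpen f)) :
    ∃ n : ℕ, str B W f ^ n * s ∈ cl E W := by
  obtain ⟨n, s', hs', h⟩ := exists_lift_cl hW hE f hs
  obtain ⟨m, hm⟩ := exists_pow_mul_eq_zero hW f (s' - str B W f ^ n * s) (by
    rw [map_sub, h, map_mul, map_pow, rho_str, sub_self])
  refine ⟨m + n, ?_⟩
  rw [mul_sub, sub_eq_zero, ← mul_assoc, ← pow_add] at hm
  rw [← hm]
  exact Subring.mul_mem _ (Subring.pow_mem _ (str_mem_cl _ _) _) hs'

/-- `cl E W` as a submodule. -/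
def clSub (E : Sub B.toModule) (W : X.Opens) : Submodule Γ(X, W) Γ(B.toModule, W) where
  carrier := {s | asSec s ∈ cl E W}
  add_mem' := fun {a b} ha hb ↦ by
    change asSec (a + b) ∈ cl E W
    rw [asSec_add]
    exact Subring.add_mem _ ha hb
  zero_mem' := by
    change asSec (0 : Γ(B.toModule, W)) ∈ cl E W
    rw [asSec_zero]
    exact Subring.zero_mem _
  smul_mem' := fun r s hs ↦ by
    change asSec (r • s) ∈ cl E W
    rw [asSec_smul]
    exact Subring.mul_mem _ (str_mem_cl _ r) hs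

lemma mem_clSub {W : X.Opens} {s : Γ(B.toModule, W)} : s ∈ clSub E W ↔ asSec s ∈ cl E W :=
  Iff.rfl

/-- Over an affine open the sections of `adj E` are the subring generated by the functions and
the sections of `E`. -/
lemma mem_adj_iff (hE : ∀ W : X.Opens, IsAffineOpen W → QC E W) {W : X.Opens}
    (hW : IsAffineOpen W) {s : Sec B W} : s ∈ (adj E).obj W ↔ s ∈ cl E W := by
  refine ⟨fun hs ↦ ?_, fun hs ↦ cl_le_adj _ hs⟩
  have : asMod s ∈ clSub E W := by
    refine mem_of_cover hW (clSub E W) (asMod s) fun x hx ↦ ?_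
    obtain ⟨V, hV, hxV, hs'⟩ := hs x hx
    obtain ⟨f, hf, hxf⟩ := hW.exists_basicOpen_le ⟨x, hxV⟩ hx
    have h1 := rho_mem_cl hf hs'
    rw [rho_rho] at h1
    obtain ⟨n, hn⟩ := exists_pow_mul_mem_cl hW (hE W hW) f h1
    refine ⟨f, n, hxf, ?_⟩
    rw [mem_clSub, asSec_smul, map_pow]
    exact hn
  exact this

/-- The generated subalgebra satisfies the localization condition. -/
lemma qc_adj (hE : ∀ W : X.Opens, IsAffineOpen W → QC E W) : (adj E).QC := by
  intro W hW f s hs
  rw [mem_adj_iff hE (hW.basicOpen f)] at hs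
  obtain ⟨n, hn⟩ := exists_pow_mul_mem_cl hW (hE W hW) f hs
  exact ⟨n, (mem_adj_iff hE hW).mpr hn⟩

lemma finiteType_codRestrict {R A : Type*} [CommRing R] [CommRing A] (φ : R →+* A)
    (S : Subring A) (hS : ∀ r, φ r ∈ S) (T : Finset A) (hT : (T : Set A) ⊆ S)
    (h : S ≤ Subring.closure (Set.range φ ∪ T)) : (φ.codRestrict S hS).FiniteType := by
  classical
  let _ : Algebra R S := (φ.codRestrict S hS).toAlgebra
  change Algebra.FiniteType R S
  refine ⟨⟨T.attach.image (fun t ↦ (⟨t.1, hT t.2⟩ : S)), ?_⟩⟩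
  rw [eq_top_iff]
  rintro ⟨x, hx⟩ -
  have key : Subring.closure (Set.range φ ∪ T) ≤
      (Algebra.adjoin R ((T.attach.image (fun t ↦ (⟨t.1, hT t.2⟩ : S)) : Finset S) :
        Set S)).toSubring.map S.subtype := by
    rw [Subring.closure_le]
    rintro _ (⟨r, rfl⟩ | ht)
    · exact ⟨algebraMap R S r, Subalgebra.algebraMap_mem _ r, rfl⟩
    · refine ⟨⟨_, hT ht⟩, Algebra.subset_adjoin ?_, rfl⟩
      rw [Finset.mem_coe, Finset.mem_image]
      exact ⟨⟨_, ht⟩, Finset.mem_attach _ _, rfl⟩
  obtain ⟨y, hy, hyx⟩ := key (h hx)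
  have : y = ⟨x, hx⟩ := Subtype.ext hyx
  rw [← this]
  exact hy

/-- The generated subalgebra is of finite type over affine opens if the submodule is. -/
lemma finiteType_adj (hE : ∀ W : X.Opens, IsAffineOpen W → QC E W) {W : X.Opens}
    (hW : IsAffineOpen W) (hfg : (E.obj W).FG) : (((adj E).strMap.app (op W)).hom).FiniteType := by
  obtain ⟨T, hT⟩ := hfg
  refine finiteType_codRestrict (str B W) ((adj E).obj W) ((adj E).str_mem W) T ?_ ?_
  · intro t ht
    exact mem_adj_of_mem (s := asSec t) (hT ▸ Submodule.subset_span ht)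
  · intro s hs
    rw [mem_adj_iff hE hW] at hs
    have : cl E W ≤ Subring.closure (Set.range (str B W) ∪ asMod ⁻¹' (T : Set Γ(B.toModule, W))) := by
      rw [cl, Subring.closure_le]
      rintro s (⟨r, rfl⟩ | hs)
      · exact Subring.subset_closure (Or.inl ⟨r, rfl⟩)
      · have hs' : asMod s ∈ Submodule.span Γ(X, W) (T : Set Γ(B.toModule, W)) := by
          rw [hT]; exact hs
        have key : ∀ y ∈ Submodule.span Γ(X, W) (T : Set Γ(B.toModule, W)),
            asSec y ∈ Subring.closure (Set.range (str B W) ∪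
              asMod ⁻¹' (T : Set Γ(B.toModule, W))) := by
          intro y hy
          induction hy using Submodule.span_induction with
          | mem x hx => exact Subring.subset_closure (Or.inr hx)
          | zero => exact Subring.zero_mem _
          | add x y _ _ hx hy => exact Subring.add_mem _ hx hy
          | smul a x _ hx =>
            exact Subring.mul_mem _ (Subring.subset_closure (Or.inl ⟨a, rfl⟩)) hx
        exact key _ hs'
    exact this hs

/-- Main statement: a section lying in a quasi-coherent submodule of finite type lies in a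
quasi-coherent subalgebra of finite type. -/
theorem exists_subalgebra (E : Sub B.toModule) (hE : ∀ x : X, GoodAt E x) {U : X.Opens}
    (b : B.presheaf.obj (op U)) (hb : asMod (B := B) b ∈ E.obj U) :
    ∃ (B' : RelSpec.QCAlg X) (φ : B' ⟶ B),
      (∀ V : X.Opens, Function.Injective (φ.hom.app (op V)).hom) ∧
      (∀ V : X.affineOpens, (B'.str.app (op (V : X.Opens))).hom.FiniteType) ∧
      b ∈ Set.range (φ.hom.app (op U)).hom := by
  have := isQCoh_toModule B
  have hQ : ∀ W : X.Opens, IsAffineOpen W → QC E W := fun W hW ↦ (qc_fg_of_good hE hW).1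
  refine ⟨(adj E).toQCAlg (qc_adj hQ), (adj E).ι (qc_adj hQ), fun V ↦ (adj E).ι_injective _ V,
    fun V ↦ finiteType_adj hQ V.2 (qc_fg_of_good hE V.2).2, ?_⟩
  rw [(adj E).range_ι]
  exact mem_adj_of_mem hb

end K27.Adjoin
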