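import Groth.Agent.QCohSup.K27.QCAlgBasic

/-!
# Sub-algebras of a quasi-coherent algebra

`SubR B`: local families of subrings of the sections of `B` containing the structure sheaf.
`SubR.toQCAlg`: the quasi-coherent algebra attached to such a family satisfying the localization
condition over affine opens; `SubR.ι` its inclusion.
-/

universe u

open AlgebraicGeometry CategoryTheory TopologicalSpace Opposite
open Groth.Agent.Ega1.SubSheaf Groth.Agent.Ega1.LocMod Groth.Agent.Ega1.QCohOfLoc
open Groth.Agent.Ega1.QCohFinite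
open Groth.Agent.Ega1.QCohAlg (IsAwayHom isAwayHom_iff)
open K27.QCAlgBasic

namespace K27.SubAlg

variable {X : Scheme.{u}} (B : RelSpec.QCAlg X)

/-- A local family of subrings containing the image of the structure sheaf. -/
structure SubR where
  /-- sections -/
  obj (U : X.Opens) : Subring (Sec B U)
  str_mem (U : X.Opens) (r : Γ(X, U)) : str B U r ∈ obj U
  map_mem {U V : X.Opens} (h : V ≤ U) {s : Sec B U} (hs : s ∈ obj U) : rho B h s ∈ obj V
  local_mem {U : X.Opens} (s : Sec B U)
    (h : ∀ x ∈ U, ∃ (V : X.Opens) (hV : V ≤ U), x ∈ V ∧ rho B hV s ∈ obj V) : s ∈ obj U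

variable {B}

namespace SubR

variable (N : SubR B)

/-- The underlying presheaf of rings. -/
def presheaf : TopCat.Presheaf CommRingCat.{u} X.carrier where
  obj U := CommRingCat.of (N.obj U.unop)
  map {U V} i := CommRingCat.ofHom ((B.presheaf.map i).hom.restrict (N.obj U.unop) (N.obj V.unop)
    (fun _ hs ↦ N.map_mem (leOfHom i.unop) hs))
  map_id U := by
    ext s
    exact congr($(B.presheaf.map_id U) s.1)
  map_comp i j := by
    ext s
    exact congr($(B.presheaf.map_comp i j) s.1)

lemma isSheaf_presheaf : N.presheaf.IsSheaf := by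
  rw [TopCat.Presheaf.isSheaf_iff_isSheafUniqueGluing]
  intro ι U sf hsf
  obtain ⟨t, ht⟩ := exists_glue (B := B) (U := iSup U) U (fun i ↦ le_iSup U i)
    (fun x hx ↦ Opens.mem_iSup.mp hx) (fun i ↦ (sf i).1) (fun i j ↦ congrArg Subtype.val (hsf i j))
  have ht' : t ∈ N.obj (iSup U) := by
    refine N.local_mem t fun x hx ↦ ?_
    obtain ⟨i, hi⟩ := Opens.mem_iSup.mp hx
    refine ⟨U i, le_iSup U i, hi, ?_⟩
    rw [ht i]
    exact (sf i).2
  refine ⟨⟨t, ht'⟩, fun i ↦ Subtype.ext (ht i), ?_⟩
  intro t' h'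
  apply Subtype.ext
  refine sec_ext _ _ fun x hx ↦ ?_
  obtain ⟨i, hi⟩ := Opens.mem_iSup.mp hx
  refine ⟨U i, le_iSup U i, hi, ?_⟩
  rw [ht i]
  exact congrArg Subtype.val (h' i)

/-- The structure map. -/
def strMap : X.presheaf ⟶ N.presheaf where
  app U := CommRingCat.ofHom ((B.str.app U).hom.codRestrict (N.obj U.unop)
    (fun r ↦ N.str_mem U.unop r))
  naturality U V i := by
    ext r
    apply Subtype.ext
    exact congr($(B.str.naturality i) r)

/-- The localization condition over affine opens. -/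
def QC : Prop := ∀ (W : X.Opens) (_ : IsAffineOpen W) (f : Γ(X, W)) (s : Sec B W),
  rho B (X.basicOpen_le f) s ∈ N.obj (X.basicOpen f) → ∃ n : ℕ, str B W f ^ n * s ∈ N.obj W

variable {N}

lemma isQC (hN : N.QC) : RelSpec.IsQC N.presheaf N.strMap := by
  intro W hW f
  change IsAwayHom (N.presheaf.map (homOfLE (X.basicOpen_le f)).op).hom
    ((N.strMap.app (op W)).hom f)
  rw [isAwayHom_iff]
  have hval : ∀ t : N.obj W, ((N.presheaf.map (homOfLE (X.basicOpen_le f)).op).hom t :
      N.obj (X.basicOpen f)).1 = rho B (X.basicOpen_le f) t.1 := fun _ ↦ rfl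
  refine ⟨?_, fun s ↦ ?_, fun t ht ↦ ?_⟩
  · have h1 : (N.presheaf.map (homOfLE (X.basicOpen_le f)).op).hom ((N.strMap.app (op W)).hom f) =
        (N.strMap.app (op (X.basicOpen f))).hom (resR (X.basicOpen_le f) f) :=
      congr($(N.strMap.naturality (homOfLE (X.basicOpen_le f)).op) f).symm
    rw [h1]
    exact (Groth.Agent.Ega1.SubExt.isUnit_res W f).map _
  · obtain ⟨n, t, ht⟩ := exists_rho_eq hW f (s : N.obj (X.basicOpen f)).1
    obtain ⟨m, hm⟩ := hN W hW f t (by
      rw [ht, ← map_pow]
      exact Subring.mul_mem _ (N.str_mem _ _) s.2)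
    refine ⟨m + n, ⟨_, hm⟩, ?_⟩
    apply Subtype.ext
    change rho B (X.basicOpen_le f) (str B W f ^ m * t) =
      rho B (X.basicOpen_le f) (str B W f) ^ (m + n) * (s : N.obj (X.basicOpen f)).1
    rw [map_mul, ht, map_pow, rho_str, pow_add, mul_assoc]
  · have h1 : rho B (X.basicOpen_le f) (t : N.obj W).1 = 0 := congrArg Subtype.val ht
    obtain ⟨n, hn⟩ := exists_pow_mul_eq_zero hW f _ h1
    exact ⟨n, Subtype.ext hn⟩

variable (N)

/-- The quasi-coherent algebra attached to a local family of subrings. -/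
def toQCAlg (hN : N.QC) : RelSpec.QCAlg X where
  presheaf := N.presheaf
  isSheaf := N.isSheaf_presheaf
  str := N.strMap
  isQC := isQC hN

/-- The inclusion. -/
def ι (hN : N.QC) : N.toQCAlg hN ⟶ B where
  hom :=
    { app := fun U ↦ CommRingCat.ofHom (N.obj U.unop).subtype
      naturality := fun _ _ _ ↦ rfl }
  comm := rfl

lemma ι_injective (hN : N.QC) (U : X.Opens) :
    Function.Injective ((N.ι hN).hom.app (op U)).hom :=
  Subtype.val_injective

lemma range_ι (hN : N.QC) (U : X.Opens) :
    Set.range ((N.ι hN).hom.app (op U)).hom = (N.obj U : Set (Sec B U)) :=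
  Subtype.range_coe

end SubR

end K27.SubAlg
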