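import Groth.Agent.Ega1.SubExtMain
import Mathlib.CategoryTheory.Filtered.Basic
import Mathlib.CategoryTheory.Limits.Cones

/-!
# Epimorphisms from a filtered colimit onto a module of finite type
-/

universe u

open AlgebraicGeometry CategoryTheory TopologicalSpace Opposite CategoryTheory.Limits
open Groth.Agent.Ega1.SubSheaf Groth.Agent.Ega1.LocMod Groth.Agent.Ega1.QCohOfLoc
open Groth.Agent.Ega1.QCohFinite Groth.Agent.Ega1.SubExt Groth.Agent.Ega1.SubExtMain

namespace K27.EpiColim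

variable {X : Scheme.{u}} {M F : X.Modules}

/-- A morphism of modules that is surjective on sections over an affine open cover, `F`
quasi-coherent, is an epimorphism. -/
lemma epi_of_surjective_cover [F.IsQuasicoherent] (φ : M ⟶ F)
    (h : ∀ x : X, ∃ W : X.Opens, x ∈ W ∧ IsAffineOpen W ∧ Function.Surjective (φ.app W)) :
    Epi φ := by
  refine ⟨fun {K} f g hfg ↦ ?_⟩
  apply Scheme.Modules.hom_ext
  intro U
  ext s
  refine section_ext K _ _ fun x hx ↦ ?_
  obtain ⟨W, hxW, hW, hs⟩ := h x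
  obtain ⟨a, ha, hxa⟩ := hW.exists_basicOpen_le ⟨x, hx⟩ hxW
  refine ⟨X.basicOpen a, ha, hxa, ?_⟩
  rw [← app_res, ← app_res]
  obtain ⟨n, t, ht⟩ := (loc_of_isQuasicoherent F hW).surj a (res F ha s)
  obtain ⟨m, rfl⟩ := hs t
  have h1 : f.app (X.basicOpen a) (φ.app _ (res M (X.basicOpen_le a) m)) =
      g.app (X.basicOpen a) (φ.app _ (res M (X.basicOpen_le a) m)) :=
    congr($(hfg).app (X.basicOpen a) (res M (X.basicOpen_le a) m))
  rw [app_res, ht, app_smul', app_smul'] at h1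
  exact (((isUnit_res W a).pow n).smul_left_cancel).mp h1

variable {J : Type u} [SmallCategory J] [IsFiltered J] {D : J ⥤ X.Modules} (c : Cocone D)
  (w : c.pt ⟶ F)

/-- The subsheaf of sections of `F` locally in the image of some `D.obj j`. -/
noncomputable def un : Sub F where
  obj U :=
    { carrier := {s | ∀ x ∈ U, ∃ (V : X.Opens) (hV : V ≤ U), x ∈ V ∧
        ∃ (j : J) (m : Γ(D.obj j, V)), (c.ι.app j ≫ w).app V m = res F hV s}
      add_mem' := by
        intro a b ha hb x hx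
        obtain ⟨V, hV, hxV, j, m, hm⟩ := ha x hx
        obtain ⟨V', hV', hxV', j', m', hm'⟩ := hb x hx
        refine ⟨V ⊓ V', inf_le_left.trans hV, ⟨hxV, hxV'⟩, IsFiltered.max j j',
          (D.map (IsFiltered.leftToMax j j')).app _ (res _ inf_le_left m) +
            (D.map (IsFiltered.rightToMax j j')).app _ (res _ inf_le_right m'), ?_⟩
        have h1 : ∀ y, (c.ι.app (IsFiltered.max j j') ≫ w).app (V ⊓ V')
            ((D.map (IsFiltered.leftToMax j j')).app (V ⊓ V') y) =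
              (c.ι.app j ≫ w).app (V ⊓ V') y := fun y ↦
          congr(($(c.w (IsFiltered.leftToMax j j')) ≫ w).app (V ⊓ V') y)
        have h2 : ∀ y, (c.ι.app (IsFiltered.max j j') ≫ w).app (V ⊓ V')
            ((D.map (IsFiltered.rightToMax j j')).app (V ⊓ V') y) =
              (c.ι.app j' ≫ w).app (V ⊓ V') y := fun y ↦
          congr(($(c.w (IsFiltered.rightToMax j j')) ≫ w).app (V ⊓ V') y)
        rw [map_add, h1, h2, app_res, app_res, hm, hm', map_add, res_res, res_res]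
      zero_mem' := fun x hx ↦ ⟨U, le_rfl, hx, IsFiltered.nonempty.some, 0, by
        rw [map_zero, map_zero]⟩
      smul_mem' := fun r s hs x hx ↦ by
        obtain ⟨V, hV, hxV, j, m, hm⟩ := hs x hx
        exact ⟨V, hV, hxV, j, resR hV r • m, by rw [app_smul', hm, res_smul]⟩ }
  map_mem {U U'} h {s} hs x hx := by
    obtain ⟨V, hV, hxV, j, m, hm⟩ := hs x (h hx)
    exact ⟨V ⊓ U', inf_le_right, ⟨hxV, hx⟩, j, res _ inf_le_left m, by
      rw [app_res, hm, res_res, res_res]⟩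
  local_mem {U} s h x hx := by
    obtain ⟨V, hV, hxV, hs⟩ := h x hx
    obtain ⟨V', hV', hxV', j, m, hm⟩ := hs x hxV
    exact ⟨V', hV'.trans hV, hxV', j, m, by rw [hm, res_res]⟩

lemma mem_un {U : X.Opens} {s : Γ(F, U)} : s ∈ (un c w).obj U ↔ ∀ x ∈ U, ∃ (V : X.Opens)
    (hV : V ≤ U), x ∈ V ∧ ∃ (j : J) (m : Γ(D.obj j, V)),
      (c.ι.app j ≫ w).app V m = res F hV s := Iff.rfl

/-- If `c` is a colimit and `w` an epimorphism then sections of `F` are locally in the image of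
some `D.obj j`. -/
lemma un_eq_top (hc : IsColimit c) [Epi w] {U : X.Opens} (s : Γ(F, U)) : s ∈ (un c w).obj U := by
  have hl : ∀ j, ∃ g : D.obj j ⟶ (un c w).toModules, g ≫ (un c w).ι = c.ι.app j ≫ w := by
    intro j
    refine exists_lift _ _ fun V m ↦ ?_
    rw [← Sub.mem_iff_exists, mem_un]
    exact fun x hx ↦ ⟨V, le_rfl, hx, j, m, by rw [res_self]⟩
  choose g hg using hl
  have hnat : ∀ {i j : J} (f : i ⟶ j), D.map f ≫ g j = g i := fun {i j} f ↦ by
    rw [← cancel_mono (un c w).ι, Category.assoc, hg, hg, ← Category.assoc, c.w]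
  let K : Cocone D :=
    { pt := (un c w).toModules
      ι := { app := g, naturality := fun i j f ↦ (hnat f).trans (Category.comp_id _).symm } }
  have hv : hc.desc K ≫ (un c w).ι = w := by
    refine hc.hom_ext fun j ↦ ?_
    rw [← Category.assoc, hc.fac]
    exact hg j
  have he : Epi (un c w).ι := epi_of_epi_fac hv
  have hi : IsIso (un c w).ι := isIso_of_mono_of_epi _
  have : s = (un c w).ι.app U ((inv (un c w).ι).app U s) := by
    have h1 : (inv (un c w).ι ≫ (un c w).ι).app U s = s := by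
      rw [IsIso.inv_hom_id]
      rfl
    exact h1.symm
  rw [this]
  exact Sub.ι_app_mem _ _

/-- The image of sections over `W`. -/
noncomputable def im (φ : M ⟶ F) (W : X.Opens) : Submodule Γ(X, W) Γ(F, W) where
  carrier := Set.range (φ.app W)
  add_mem' := by
    rintro _ _ ⟨a, rfl⟩ ⟨b, rfl⟩
    exact ⟨a + b, map_add _ _ _⟩
  zero_mem' := ⟨0, map_zero _⟩
  smul_mem' := by
    rintro r _ ⟨a, rfl⟩
    exact ⟨r • a, app_smul' _ _ _⟩

lemma mem_im {φ : M ⟶ F} {W : X.Opens} {s : Γ(F, W)} : s ∈ im φ W ↔ ∃ m, φ.app W m = s := Iff.rfl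

omit [IsFiltered J] in
lemma im_mono {i j : J} (f : i ⟶ j) (W : X.Opens) :
    im (c.ι.app i ≫ w) W ≤ im (c.ι.app j ≫ w) W := by
  rintro _ ⟨m, rfl⟩
  exact ⟨(D.map f).app W m, congr(($(c.w f) ≫ w).app W m)⟩

/-- A section over an affine open that is locally in the image is in the image. -/
lemma exists_mem_im [∀ j, (D.obj j).IsQuasicoherent] [F.IsQuasicoherent] {W : X.Opens}
    (hW : IsAffineOpen W) {s : Γ(F, W)} (hs : s ∈ (un c w).obj W) :
    ∃ j, s ∈ im (c.ι.app j ≫ w) W := by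
  classical
  have h1 : ∀ x : W, ∃ f : Γ(X, W), x.1 ∈ X.basicOpen f ∧
      ∃ (j : J) (n : ℕ), f ^ n • s ∈ im (c.ι.app j ≫ w) W := by
    rintro ⟨x, hx⟩
    obtain ⟨V, hV, hxV, j, m, hm⟩ := hs x hx
    obtain ⟨f, hf, hxf⟩ := hW.exists_basicOpen_le ⟨x, hxV⟩ hx
    refine ⟨f, hxf, j, ?_⟩
    obtain ⟨n, m', hm'⟩ := (loc_of_isQuasicoherent (D.obj j) hW).surj f (res _ hf m)
    obtain ⟨k, hk⟩ := (loc_of_isQuasicoherent F hW).inj f
      ((c.ι.app j ≫ w).app W m' - f ^ n • s) (by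
        rw [map_sub, ← app_res, hm', app_smul', app_res, hm, res_res, res_pow_smul, sub_self])
    refine ⟨k + n, ?_⟩
    rw [smul_sub, sub_eq_zero, smul_smul, ← pow_add] at hk
    rw [← hk]
    exact Submodule.smul_mem _ _ ⟨m', rfl⟩
  choose f hxf j n hn using h1
  obtain ⟨t, ht⟩ := hW.isCompact.elim_finite_subcover (fun x : W ↦ (X.basicOpen (f x) : Set X))
    (fun x ↦ (X.basicOpen (f x)).isOpen) (fun x hx ↦ Set.mem_iUnion.mpr ⟨⟨x, hx⟩, hxf ⟨x, hx⟩⟩)
  obtain ⟨j₀, hj₀⟩ := IsFiltered.sup_objs_exists (t.image j)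
  refine ⟨j₀, mem_of_cover hW _ s fun x hx ↦ ?_⟩
  obtain ⟨y, hyt, hxy⟩ := Set.mem_iUnion₂.mp (ht hx)
  obtain ⟨g⟩ := hj₀ (Finset.mem_image_of_mem j hyt)
  exact ⟨f y, n y, hxy, im_mono c w g W (hn y)⟩

/-- Main statement. -/
theorem epi_iff [CompactSpace X] [∀ j, (D.obj j).IsQuasicoherent] (hc : IsColimit c)
    [F.IsQuasicoherent] (hF : SheafOfModules.IsFiniteType (R := X.ringCatSheaf) F) :
    Epi w ↔ ∃ j₀ : J, ∀ j : J, Nonempty (j₀ ⟶ j) → Epi (c.ι.app j ≫ w) := by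
  classical
  constructor
  · intro hw
    have hcov : ∀ x : X, ∃ W : X.affineOpens, x ∈ W.1 := by
      intro x
      obtain ⟨_, ⟨W, hW, rfl⟩, hxW, -⟩ :=
        X.isBasis_affineOpens.exists_subset_of_mem_open (Set.mem_univ x) isOpen_univ
      exact ⟨⟨W, hW⟩, hxW⟩
    choose W hxW using hcov
    obtain ⟨t, ht⟩ := (CompactSpace.isCompact_univ (X := X)).elim_finite_subcover
      (fun x : X ↦ ((W x).1 : Set X)) (fun x ↦ (W x).1.2)
      (fun x _ ↦ Set.mem_iUnion.mpr ⟨x, hxW x⟩)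
    choose T hT using fun x : X ↦ (finite_sections F hF (W x).2).fg_top
    choose j hj using fun (x : X) (s : Γ(F, (W x).1)) ↦
      exists_mem_im c w (W x).2 (un_eq_top c w hc s)
    obtain ⟨j₀, hj₀⟩ := IsFiltered.sup_objs_exists (t.biUnion fun x ↦ (T x).image (j x))
    refine ⟨j₀, fun j' ⟨g'⟩ ↦ epi_of_surjective_cover _ fun x ↦ ?_⟩
    obtain ⟨y, hyt, hxy⟩ := Set.mem_iUnion₂.mp (ht (Set.mem_univ x))
    refine ⟨(W y).1, hxy, (W y).2, fun s ↦ ?_⟩
    have htop : (⊤ : Submodule Γ(X, (W y).1) Γ(F, (W y).1)) ≤ im (c.ι.app j' ≫ w) (W y).1 := by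
      rw [← hT y, Submodule.span_le]
      intro s hs
      obtain ⟨g⟩ := hj₀ (X := j y s)
        (Finset.mem_biUnion.mpr ⟨y, hyt, Finset.mem_image_of_mem _ hs⟩)
      exact im_mono c w (g ≫ g') _ (hj y s)
    exact htop (Submodule.mem_top (x := s))
  · rintro ⟨j₀, hj₀⟩
    have := hj₀ j₀ ⟨𝟙 _⟩
    exact epi_of_epi (c.ι.app j₀) w

end K27.EpiColim
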