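import Groth.Agent.QCohSup.K27.Adjoin

/-!
# Quasi-coherent algebras of finite type are generated by a submodule of finite type
-/

universe u

open AlgebraicGeometry CategoryTheory TopologicalSpace Opposite
open Groth.Agent.Ega1.SubSheaf Groth.Agent.Ega1.LocMod Groth.Agent.Ega1.QCohOfLoc
open Groth.Agent.Ega1.QCohFinite Groth.Agent.Ega1.SubExt Groth.Agent.Ega1.SubExtMain
open Groth.Agent.Ega1.SubUnion
open K27.QCAlgBasic K27.SubAlg K27.Adjoin

namespace K27.GenAlg

variable {X : Scheme.{u}} {B : RelSpec.QCAlg X}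

lemma cl_mono {E E' : Sub B.toModule} (h : E ≤ E') (U : X.Opens) : cl E U ≤ cl E' U :=
  Subring.closure_mono (Set.union_subset_union_right _ fun _ hs ↦ h U hs)

/-- If `cl E W₀` is everything, so is `cl E` over basic opens of `W₀`. -/
lemma cl_basicOpen_eq_top {E : Sub B.toModule} {W₀ : X.Opens} (hW₀ : IsAffineOpen W₀)
    (h : cl E W₀ = ⊤) (f : Γ(X, W₀)) : cl E (X.basicOpen f) = ⊤ := by
  rw [eq_top_iff]
  rintro s -
  obtain ⟨n, t, ht⟩ := exists_rho_eq hW₀ f s
  have h1 : rho B (X.basicOpen_le f) t ∈ cl E (X.basicOpen f) :=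
    rho_mem_cl _ (by rw [h]; trivial)
  obtain ⟨g, hg⟩ := ((Groth.Agent.Ega1.SubExt.isUnit_res W₀ f).pow n).exists_left_inv
  have h2 : s = str B _ g * rho B (X.basicOpen_le f) t := by
    rw [ht, ← mul_assoc, ← map_pow, ← map_mul, hg, map_one, one_mul]
  rw [h2]
  exact Subring.mul_mem _ (str_mem_cl _ _) h1

/-- If `cl E` is everything on an affine cover then it is everything on all affine opens. -/
lemma cl_eq_top {E : Sub B.toModule} (hE : ∀ W : X.Opens, IsAffineOpen W → QC E W)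
    (h : ∀ x : X, ∃ W₀ : X.Opens, x ∈ W₀ ∧ IsAffineOpen W₀ ∧ cl E W₀ = ⊤)
    {W : X.Opens} (hW : IsAffineOpen W) : cl E W = ⊤ := by
  rw [eq_top_iff]
  rintro s -
  rw [← mem_adj_iff hE hW]
  intro x hx
  obtain ⟨W₀, hxW₀, hW₀, h0⟩ := h x
  obtain ⟨f, hf, hxf⟩ := hW₀.exists_basicOpen_le ⟨x, hx⟩ hxW₀
  exact ⟨X.basicOpen f, hf, hxf, by rw [cl_basicOpen_eq_top hW₀ h0 f]; trivial⟩

/-- Directedness: one good submodule containing finitely many given sections. -/
lemma exists_good_of_finset [CompactSpace X] [QuasiSeparatedSpace X] {ι : Type*}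
    (t : Finset ι) (W : ι → X.Opens) (hW : ∀ i, IsAffineOpen (W i))
    (T : ∀ i, Finset (Sec B (W i))) :
    ∃ E : GoodSub B.toModule, ∀ i ∈ t, ∀ s ∈ T i, asMod s ∈ E.1.obj (W i) := by
  classical
  have := isQCoh_toModule B
  choose N hN using fun (i : ι) (s : Sec B (W i)) ↦
    exists_good_mem (M := B.toModule) (hW i).isCompact (asMod s)
  obtain ⟨E, hE⟩ := Finset.exists_le (t.biUnion fun i ↦ (T i).image (N i))
  refine ⟨E, fun i hi s hs ↦ ?_⟩
  exact hE (N i s) (Finset.mem_biUnion.mpr ⟨i, hi, Finset.mem_image_of_mem _ hs⟩) _ (hN i s)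

/-- A finite type ring hom exhibits the target as the subring generated by the image and a
finite set. -/
lemma exists_closure_eq_top {R A : Type*} [CommRing R] [CommRing A] (φ : R →+* A)
    (h : φ.FiniteType) : ∃ T : Finset A, Subring.closure (Set.range φ ∪ T) = ⊤ := by
  let _ : Algebra R A := φ.toAlgebra
  obtain ⟨T, hT⟩ := (h : Algebra.FiniteType R A).out
  refine ⟨T, ?_⟩
  rw [eq_top_iff]
  rintro x -
  have hx : x ∈ Algebra.adjoin R (T : Set A) := by rw [hT]; trivial
  induction hx using Algebra.adjoin_induction with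
  | mem x hx => exact Subring.subset_closure (Or.inr hx)
  | algebraMap r => exact Subring.subset_closure (Or.inl ⟨r, rfl⟩)
  | add x y _ _ hx hy => exact Subring.add_mem _ hx hy
  | mul x y _ _ hx hy => exact Subring.mul_mem _ hx hy

/-- Main statement. -/
theorem exists_generating [CompactSpace X] [QuasiSeparatedSpace X]
    (hB : ∀ U : X.affineOpens, (B.str.app (op (U : X.Opens))).hom.FiniteType) :
    ∃ E : GoodSub B.toModule, ∀ W : X.Opens, IsAffineOpen W → cl E.1 W = ⊤ := by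
  have := isQCoh_toModule B
  have hcov : ∀ x : X, ∃ W : X.affineOpens, x ∈ W.1 := by
    intro x
    obtain ⟨_, ⟨W, hW, rfl⟩, hxW, -⟩ :=
      X.isBasis_affineOpens.exists_subset_of_mem_open (Set.mem_univ x) isOpen_univ
    exact ⟨⟨W, hW⟩, hxW⟩
  choose W hxW using hcov
  obtain ⟨t, ht⟩ := (CompactSpace.isCompact_univ (X := X)).elim_finite_subcover
    (fun x : X ↦ ((W x).1 : Set X)) (fun x ↦ (W x).1.2)
    (fun x _ ↦ Set.mem_iUnion.mpr ⟨x, hxW x⟩)
  choose T hT using fun x : X ↦ exists_closure_eq_top (str B (W x).1) (hB (W x))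
  obtain ⟨E, hE⟩ := exists_good_of_finset (B := B) t (fun x ↦ (W x).1) (fun x ↦ (W x).2) T
  refine ⟨E, fun V hV ↦ cl_eq_top (fun W hW ↦ (qc_fg_of_good E.2 hW).1) (fun x ↦ ?_) hV⟩
  obtain ⟨y, hyt, hxy⟩ := Set.mem_iUnion₂.mp (ht (Set.mem_univ x))
  refine ⟨(W y).1, hxy, (W y).2, ?_⟩
  rw [eq_top_iff, ← hT y, cl]
  refine Subring.closure_mono (Set.union_subset_union_right _ fun s hs ↦ hE y hyt s hs)

/-- The statement in terms of modules. -/
theorem exists_generating_module [CompactSpace X] [QuasiSeparatedSpace X]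
    (hB : ∀ U : X.affineOpens, (B.str.app (op (U : X.Opens))).hom.FiniteType) :
    ∃ (E : X.Modules) (j : E ⟶ B.toModule), Mono j ∧ E.IsQuasicoherent ∧
      SheafOfModules.IsFiniteType (R := X.ringCatSheaf) E ∧
      ∀ U : X.affineOpens,
        Subring.closure (Set.range (B.str.app (op (U : X.Opens))).hom ∪
          Set.range (fun e : E.val.obj (op (U : X.Opens)) ↦
            (show B.presheaf.obj (op (U : X.Opens)) from (j.val.app (op (U : X.Opens))).hom e))) =
              ⊤ := by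
  have := isQCoh_toModule B
  obtain ⟨E, hE⟩ := exists_generating hB
  obtain ⟨h1, h2⟩ := isQuasicoherent_of_good E.2
  refine ⟨E.1.toModules, E.1.ι, inferInstance, h1, h2, fun U ↦ ?_⟩
  rw [eq_top_iff, ← hE U.1 U.2, cl]
  refine Subring.closure_mono (Set.union_subset_union_right _ fun s hs ↦ ?_)
  exact ⟨E.1.sec _ hs, rfl⟩

end K27.GenAlg
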