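import Groth.Agent.Ega1.SubExtMain
import Mathlib.Order.UpperLower.CompleteLattice

/-!
# Extension of quasi-coherent subsheaves of finite type along a well-ordered affine cover
-/

universe u v

open AlgebraicGeometry CategoryTheory TopologicalSpace Opposite
open Groth.Agent.Ega1.SubSheaf Groth.Agent.Ega1.LocMod Groth.Agent.Ega1.QCohOfLoc
open Groth.Agent.Ega1.QCohFinite Groth.Agent.Ega1.SubExt

namespace K27.WellOrd

variable {X : Scheme.{u}} {M : X.Modules} {L : Type v} [LinearOrder L]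

/-- The union of `U` and of the opens of the family indexed by `S`. -/
def un (V : L → X.Opens) (U : X.Opens) (S : LowerSet L) : X.Opens := U ⊔ ⨆ l : S, V l.1

variable {V : L → X.Opens} {U : X.Opens}

lemma mem_un {S : LowerSet L} {x : X} : x ∈ un V U S ↔ x ∈ U ∨ ∃ l ∈ S, x ∈ V l := by
  rw [un]
  change x ∈ U ∨ x ∈ (⨆ l : S, V l.1 : X.Opens) ↔ _
  rw [Opens.mem_iSup]
  simp only [Subtype.exists, exists_prop]

lemma un_mono {S T : LowerSet L} (h : S ≤ T) : un V U S ≤ un V U T := by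
  intro x hx
  rw [mem_un] at hx ⊢
  exact hx.imp id fun ⟨l, hl, hx⟩ ↦ ⟨l, h hl, hx⟩

lemma le_un (S : LowerSet L) : U ≤ un V U S := le_sup_left

/-- The data of a partial extension. -/
structure Part (N : Sub M) (V : L → X.Opens) (U : X.Opens) where
  /-- the index set -/
  S : LowerSet L
  /-- the partial extension -/
  N' : Sub M
  agree : Agree N' N U
  good : ∀ x ∈ un V U S, GoodAt N' x

/-- The order relation on partial extensions. -/
def rel {N : Sub M} (a b : Part N V U) : Prop := a.S ≤ b.S ∧ Agree b.N' a.N' (un V U a.S)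

lemma rel_trans {N : Sub M} {a b c : Part N V U} (hab : rel a b) (hbc : rel b c) : rel a c :=
  ⟨hab.1.trans hbc.1, (hbc.2.mono (un_mono hab.1)).trans hab.2⟩

lemma exists_bound [M.IsQuasicoherent] {N : Sub M} (c : Set (Part N V U)) (hc : IsChain rel c)
    (hne : c.Nonempty) : ∃ b : Part N V U, ∀ a ∈ c, rel a b := by
  have hcomp : ∀ i j : c, Agree i.1.N' j.1.N' (un V U i.1.S ⊓ un V U j.1.S) := by
    intro i j
    by_cases hij : i = j
    · subst hij; exact fun _ _ ↦ rfl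
    rcases hc i.2 j.2 (fun h ↦ hij (Subtype.ext h)) with h | h
    · exact (h.2.symm).mono inf_le_left
    · exact h.2.mono inf_le_right
  obtain ⟨a₀, ha₀⟩ := hne
  have hag := agree_glue (V := fun a : c ↦ un V U a.1.S) (N := fun a : c ↦ a.1.N') hcomp
  refine ⟨⟨⨆ i : c, i.1.S, glue (fun a : c ↦ un V U a.1.S) (fun a : c ↦ a.1.N'), ?_, ?_⟩, ?_⟩
  · exact ((hag ⟨a₀, ha₀⟩).mono (le_un _)).trans a₀.agree
  · intro x hx
    have : ∃ i : c, x ∈ un V U i.1.S := by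
      rcases mem_un.mp hx with hx | ⟨l, hl, hx⟩
      · exact ⟨⟨a₀, ha₀⟩, le_un _ hx⟩
      · obtain ⟨i, hi⟩ := LowerSet.mem_iSup_iff.mp hl
        exact ⟨i, mem_un.mpr (Or.inr ⟨l, hi, hx⟩)⟩
    obtain ⟨i, hi⟩ := this
    exact GoodAt.congr (hag i).symm hi (i.1.good x hi)
  · intro a ha
    exact ⟨le_iSup (fun i : c ↦ i.1.S) ⟨a, ha⟩, hag ⟨a, ha⟩⟩

lemma inf_un (l : L) {S : LowerSet L} (hSl : ∀ m, m ∈ S ↔ m < l) :
    ((V l ⊓ un V U S : X.Opens) : Set X) =
      ((V l : Set X) ∩ U) ∪ ((V l : Set X) ∩ ⋃ m ∈ Set.Iio l, (V m : Set X)) := by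
  ext x
  constructor
  · rintro ⟨h1, h2⟩
    rcases mem_un.mp h2 with h2 | ⟨m, hm, h2⟩
    · exact Or.inl ⟨h1, h2⟩
    · exact Or.inr ⟨h1, Set.mem_iUnion₂.mpr ⟨m, (hSl _).mp hm, h2⟩⟩
  · rintro (⟨h1, h2⟩ | ⟨h1, h2⟩)
    · exact ⟨h1, le_un _ h2⟩
    · obtain ⟨m, hm, hm'⟩ := Set.mem_iUnion₂.mp h2
      exact ⟨h1, mem_un.mpr (Or.inr ⟨m, (hSl _).mpr hm, hm'⟩)⟩

lemma un_Iic_le (l : L) {S : LowerSet L} (hSl : ∀ m, m ∈ S ↔ m < l) :
    un V U (LowerSet.Iic l) ≤ un V U S ⊔ V l := by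
  intro x hx
  rcases mem_un.mp hx with hx | ⟨m, hm, hx⟩
  · exact Or.inl (le_un _ hx)
  · rcases lt_or_eq_of_le (LowerSet.mem_Iic_iff.mp hm) with h | h
    · exact Or.inl (mem_un.mpr (Or.inr ⟨m, (hSl _).mpr h, hx⟩))
    · exact Or.inr (h ▸ hx)

/-- Extension of a subsheaf that is quasi-coherent of finite type over `U`, along a well-ordered
cover by affine opens. -/
theorem exists_extension_wellOrdered [M.IsQuasicoherent]
    [WellFoundedLT L] (V : L → X.Opens) (hV : ∀ l, IsAffineOpen (V l)) (hcov : ⨆ l, V l = ⊤)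
    (hW : ∀ l, IsCompact ((V l : Set X) ∩ ⋃ m ∈ Set.Iio l, (V m : Set X)))
    {U : X.Opens} (hU : ∀ l, IsCompact ((V l : Set X) ∩ U))
    {N : Sub M} (hN : ∀ x ∈ U, GoodAt N x) :
    ∃ N' : Sub M, Agree N' N U ∧ ∀ x : X, GoodAt N' x := by
  have : Nonempty (Part N V U) := by
    refine ⟨⟨⊥, N, fun _ _ ↦ rfl, fun x hx ↦ hN x ?_⟩⟩
    rcases mem_un.mp hx with hx | ⟨l, hl, -⟩
    · exact hx
    · exact absurd hl LowerSet.notMem_bot
  obtain ⟨⟨S, N', hag, hN'⟩, hmax⟩ := exists_maximal_of_nonempty_chains_bounded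
    (r := rel (N := N) (V := V) (U := U)) exists_bound rel_trans
  have hS : ∀ l, l ∈ S := by
    intro l
    induction l using WellFoundedLT.induction with
    | ind l ih =>
      by_contra hl
      have hSl : ∀ m, m ∈ S ↔ m < l := fun m ↦
        ⟨fun hm ↦ lt_of_not_ge fun h ↦ hl (S.lower h hm), fun hm ↦ ih m hm⟩
      obtain ⟨N₁, hag₁, hN₁⟩ := exists_extension_step hN' (hV l) (by
        rw [inf_un l hSl]; exact (hU l).union (hW l))
      have hle : S ≤ LowerSet.Iic l := fun m hm ↦ ((hSl m).mp hm).le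
      have := (hmax ⟨LowerSet.Iic l, N₁, (hag₁.mono (le_un S)).trans hag,
        fun x hx ↦ hN₁ x (un_Iic_le l hSl hx)⟩ ⟨hle, hag₁⟩).1
      exact hl (this (LowerSet.mem_Iic_iff.mpr le_rfl))
  refine ⟨N', hag, fun x ↦ hN' x ?_⟩
  have hx : x ∈ ⨆ l, V l := by rw [hcov]; trivial
  obtain ⟨l, hl⟩ := Opens.mem_iSup.mp hx
  exact mem_un.mpr (Or.inr ⟨l, hS l, hl⟩)

end K27.WellOrd
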